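import Cfsg.Agent.Omega.NOThreeL.Sigma.Front
import Cfsg.Agent.Omega.KL.ZR.End
import Cfsg.Agent.Omega.KL.GenTool

/-!
# SIGMA inside a local group (#22781 (1), (3), #24127 (3); helper863, helper23)

`Y` a finite group, `T` a Sylow 2-subgroup of `Y`, `Z ≤ T` elementary abelian, centralised by `T`, `D = C_Y(Z)`,
`O = O₂(D)`, `U_R = ⟨Z^R⟩` for `D ≤ R ≤ Y`; all these `R` have `Z ≤ O₂(R)`.

* `LocIn c Y T Z A` : the input: `A` elementary abelian of maximal order in `O`, `A ≰ O₂(Y)`; every `T`-minimal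
  `P ≤ Y` has `|Z : C_Z(P)| ≤ c` and, if it moves `Z`, fixes some `m ∈ Z` with `A ≤ O₂(C_Y(m))`;
* `LocIn.noFlag` : (NO) for flags;
* `LocIn.exists_zPre` : the input `ZPre` of the common end;
* `LocIn.false_of` : contradiction for `c = 2`.
-/

set_option autoImplicit false

namespace Cfsg.Agent.Omega.NOThreeL.Sigma

open Subgroup Cfsg Cfsg.Agent.ZN Cfsg.Agent.ZN.ChoiceBase Cfsg.Agent.Omega.MinPar
open Cfsg.Agent.Omega.NOThreeL.ZCut (XZ XZ_le mem_XZ conj_mem_XZ le_normalizer_XZ)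
open Cfsg.Agent.Omega.NoFF.Basic (comm_symm comm_mono)
open Cfsg.Agent.Omega.NoFF.ThmJQ (MxIn)
open Cfsg.Agent.Omega.NoFF.ThmJFam (Ex card_sup_inf)
open Cfsg.Agent.Omega.ML.Final (MLK GDat kgroup_of_surj)
open Cfsg.Agent.MinSimple.VModule (le_normalizer_o2 o2_isPGroup o2_le le_o2)
open Cfsg.Agent.ClassTwoFusion.Quad Cfsg.Agent.Omega.ML.MinFrame
open Cfsg.Agent.MinSimple.MinParabolic (IsMinPar)
open Cfsg.Agent.Omega.KL.ZR (ZPre ZTwo)
open Cfsg.Agent.Omega.KL.GenTool (minPar_map_subtype)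

universe u

variable {G : Type u} [Group G]

/-! ### `⟨Z^R⟩` -/

/-- `⟨Z^R⟩` -/
def UR (Z R : Subgroup G) : Subgroup G := closure {x | ∃ r ∈ R, ∃ z ∈ Z, x = r * z * r⁻¹}

theorem conj_mem_UR {Z R : Subgroup G} {r z : G} (hr : r ∈ R) (hz : z ∈ Z) : r * z * r⁻¹ ∈ UR Z R :=
  subset_closure ⟨r, hr, z, hz, rfl⟩

theorem le_UR (Z R : Subgroup G) : Z ≤ UR Z R := fun z hz => by
  have := conj_mem_UR (one_mem R) hz
  simpa using this

theorem UR_le {Z R K : Subgroup G} (h : ∀ r ∈ R, ∀ z ∈ Z, r * z * r⁻¹ ∈ K) : UR Z R ≤ K := by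
  rw [UR, closure_le]
  rintro _ ⟨r, hr, z, hz, rfl⟩
  exact h r hr z hz

theorem UR_le_of {Z R K : Subgroup G} (hZ : Z ≤ K) (hR : R ≤ normalizer (K : Set G)) : UR Z R ≤ K :=
  UR_le fun _ hr z hz => (mem_normalizer_iff.1 (hR hr) z).1 (hZ hz)

theorem UR_mono {Z R R' : Subgroup G} (h : R ≤ R') : UR Z R ≤ UR Z R' :=
  UR_le fun _ hr _ hz => conj_mem_UR (h hr) hz

theorem XZ_le_UR {Z R : Subgroup G} {z : G} (hz : z ∈ Z) : XZ z R ≤ UR Z R :=
  XZ_le fun _ hp => conj_mem_UR hp hz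

theorem le_normalizer_UR (Z R : Subgroup G) : R ≤ normalizer (UR Z R : Set G) := by
  have key : ∀ r ∈ R, cj r (UR Z R) ≤ UR Z R := by
    intro r hr
    rw [cj, map_le_iff_le_comap]
    refine UR_le fun s hs z hz => ?_
    have h1 := conj_mem_UR (mul_mem hr hs) hz
    have e : (r * s) * z * (r * s)⁻¹ = r * (s * z * s⁻¹) * r⁻¹ := by group
    rw [e] at h1
    exact h1
  intro r hr
  rw [mem_normalizer_iff_cj]
  refine le_antisymm (key r hr) ?_
  have h1 := cj_mono r (key r⁻¹ (inv_mem hr))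
  rwa [cj_cj_inv] at h1

/-- the conjugation action -/
@[reducible] def act {R U : Subgroup G} (h : R ≤ normalizer (U : Set G)) : MulDistribMulAction R U where
  smul g x := ⟨(g : G) * x * (g : G)⁻¹, (mem_normalizer_iff.1 (h g.2) x).1 x.2⟩
  one_smul x := Subtype.ext (by change (1 : G) * x * (1 : G)⁻¹ = x; group)
  mul_smul g k x := Subtype.ext (by
    change ((g : G) * k) * x * ((g : G) * k)⁻¹ = (g : G) * ((k : G) * x * (k : G)⁻¹) * (g : G)⁻¹
    group)
  smul_mul g x y := Subtype.ext (by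
    change (g : G) * ((x : G) * y) * (g : G)⁻¹ = (g : G) * x * (g : G)⁻¹ * ((g : G) * y * (g : G)⁻¹)
    group)
  smul_one g := Subtype.ext (by change (g : G) * 1 * (g : G)⁻¹ = 1; group)

/-! ### The input -/

/-- **the input of SIGMA inside `Y`** -/
structure LocIn (c : ℕ) (Y T Z A : Subgroup G) : Prop where
  two : IsPGroup 2 T
  TY : T ≤ Y
  syl : ¬ 2 ∣ T.relIndex Y
  ZT : Z ≤ T
  TZ : T ≤ centralizer (Z : Set G)
  sq : ∀ z ∈ Z, z ^ 2 = 1
  nZ : Y ⊓ normalizer (T : Set G) ≤ normalizer (Z : Set G)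
  ch : ∀ R, Y ⊓ centralizer (Z : Set G) ≤ R → R ≤ Y → Z ≤ o2 R
  mx : MxIn (o2 (Y ⊓ centralizer (Z : Set G))) A
  nA : ¬ A ≤ o2 Y
  par : ∀ P, IsMinPar T P → P ≤ Y → (Z ⊓ centralizer (P : Set G)).relIndex Z ≤ c
  fix : ∀ P, IsMinPar T P → P ≤ Y → ¬ P ≤ centralizer (Z : Set G) →
    ∃ m ∈ Z, P ≤ centralizer ({m} : Set G) ∧ A ≤ o2 (Y ⊓ centralizer ({m} : Set G))
  KY : IsKGroup Y

variable [Finite G]

theorem kgroup_le {Y R : Subgroup G} (hY : IsKGroup Y) (h : R ≤ Y) : IsKGroup R :=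
  kgroup_of_surj hY (R.subgroupOf Y) (subgroupOfEquivOfLe h).toMonoidHom (subgroupOfEquivOfLe h).surjective

/-- `|U : C_U(A)| ≤ |A : C_A(U)|` for `A` of maximal order -/
theorem off_of {N A U : Subgroup G} (hA : MxIn N A) (hU : Ex U) (hUN : U ≤ N) :
    (centralizer (A : Set G)).relIndex U ≤ (centralizer (U : Set G)).relIndex A := by
  have h1 := hA.2.2 _ (Ex.sup hU (hA.1.mono inf_le_left)
    (comm_symm (inf_le_right : A ⊓ centralizer (U : Set G) ≤ _))) (sup_le hUN (inf_le_left.trans hA.2.1))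
  have h2 := card_sup_inf (A := U) (B := A ⊓ centralizer (U : Set G)) (comm_symm inf_le_right)
  have h3 : Nat.card (U ⊓ (A ⊓ centralizer (U : Set G)) : Subgroup G) ≤
      Nat.card (U ⊓ centralizer (A : Set G) : Subgroup G) :=
    Subgroup.card_le_of_le (inf_le_inf le_rfl (inf_le_left.trans hA.1.comm))
  exact FFThm.relIndex_le_iff.1 (by rw [← h2]; exact Nat.mul_le_mul h1 h3)

/-- `O₂` of a subgroup of `C` -/
theorem sub_o2 {C S B : Subgroup G} {S' : Subgroup C} (hS : ∀ c : C, c ∈ S' ↔ (c : G) ∈ S) (hB : B ≤ o2 S) :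
    B.subgroupOf C ≤ o2 S' := by
  have h1 : B.subgroupOf C ≤ (o2 S).subgroupOf C := fun b hb => mem_subgroupOf.2 (hB (mem_subgroupOf.1 hb))
  refine h1.trans (le_o2 (fun c hc => (hS c).2 (MinSimple.VModule.o2_le _ (mem_subgroupOf.1 hc)))
    ((o2_isPGroup S).comap_of_injective C.subtype C.subtype_injective) fun s hs => ?_)
  have h2 := le_normalizer_o2 S ((hS s).1 hs)
  rw [mem_normalizer_iff] at h2 ⊢
  exact fun t => h2 t

namespace LocIn

variable {c : ℕ} {Y T Z A : Subgroup G} (h : LocIn c Y T Z A)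
include h

theorem TD : T ≤ Y ⊓ centralizer (Z : Set G) := le_inf h.TY h.TZ

section R

variable {R : Subgroup G} (hD : Y ⊓ centralizer (Z : Set G) ≤ R) (hR : R ≤ Y)
include hD hR

theorem sylR : ¬ 2 ∣ T.relIndex R := fun h1 => by
  apply h.syl
  rw [← relIndex_mul_relIndex T R Y (h.TD.trans hD) hR]
  exact h1.mul_right _

theorem o2_le_T : o2 R ≤ T := MinSimple.VModule.o2_le_of_sylow h.two (h.sylR hD hR)

theorem o2_le_O : o2 R ≤ o2 (Y ⊓ centralizer (Z : Set G)) :=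
  le_o2 ((h.o2_le_T hD hR).trans h.TD) (o2_isPGroup _) (hD.trans (le_normalizer_o2 R))

theorem UR_le_o2 : UR Z R ≤ o2 R := UR_le_of (h.ch R hD hR) (le_normalizer_o2 R)

/-- `O₂(R)` centralises `⟨Z^R⟩` -/
theorem o2_le_cent : o2 R ≤ centralizer (UR Z R : Set G) := by
  refine comm_symm (UR_le fun r hr z hz => ?_)
  rw [mem_centralizer_iff]
  intro x hx
  have h1 : r⁻¹ * x * r ∈ o2 R := by
    have := (mem_normalizer_iff.1 (inv_mem (le_normalizer_o2 R hr)) x).1 hx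
    rwa [inv_inv] at this
  have h2 : z * (r⁻¹ * x * r) = (r⁻¹ * x * r) * z :=
    mem_centralizer_iff.1 (h.TZ (h.o2_le_T hD hR h1)) z hz
  calc x * (r * z * r⁻¹) = r * ((r⁻¹ * x * r) * z) * r⁻¹ := by group
    _ = r * (z * (r⁻¹ * x * r)) * r⁻¹ := by rw [h2]
    _ = r * z * r⁻¹ * x := by group

theorem ex_UR : Ex (UR Z R) := by
  have hc : UR Z R ≤ centralizer (UR Z R : Set G) := (h.UR_le_o2 hD hR).trans (h.o2_le_cent hD hR)
  intro x hx
  have key : ∀ x ∈ UR Z R, x ∈ UR Z R ∧ x ^ 2 = 1 := by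
    intro x hx
    rw [UR] at hx
    induction hx using closure_induction with
    | mem x hx =>
      obtain ⟨r, hr, z, hz, rfl⟩ := hx
      refine ⟨conj_mem_UR hr hz, ?_⟩
      have h1 := h.sq z hz
      rw [pow_two] at h1 ⊢
      calc r * z * r⁻¹ * (r * z * r⁻¹) = r * (z * z) * r⁻¹ := by group
        _ = 1 := by rw [h1]; group
    | one => exact ⟨one_mem _, one_pow 2⟩
    | mul x y _ _ hx hy =>
      refine ⟨mul_mem hx.1 hy.1, ?_⟩
      have h1 : Commute x y := (mem_centralizer_iff.1 (hc hy.1) x hx.1)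
      rw [h1.mul_pow, hx.2, hy.2, one_mul]
    | inv x _ hx => exact ⟨inv_mem hx.1, by rw [inv_pow, hx.2, inv_one]⟩
  exact (key x hx).2

/-- `C_O(⟨Z^R⟩) ≤ O₂(R)` -/
theorem inf_le {B : Subgroup G} (hB : B ≤ o2 (Y ⊓ centralizer (Z : Set G))) :
    B ⊓ centralizer (UR Z R : Set G) ≤ o2 R := by
  set O := o2 (Y ⊓ centralizer (Z : Set G)) with hO
  set K := R ⊓ centralizer (UR Z R : Set G) with hK
  have hKD : K ≤ Y ⊓ centralizer (Z : Set G) :=
    le_inf (inf_le_left.trans hR) (inf_le_right.trans (centralizer_le (le_UR Z R)))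
  have hKn : R ≤ normalizer (K : Set G) := by
    intro g hg
    rw [mem_normalizer_iff_cj, hK, cj_inf, cj_centralizer, cj_eq_of_mem_normalizer (le_normalizer hg),
      cj_eq_of_mem_normalizer (le_normalizer_UR Z R hg)]
  have h1 : O ⊓ centralizer (UR Z R : Set G) ≤ o2 K := by
    refine le_o2 (le_inf (inf_le_left.trans ((MinSimple.VModule.o2_le _).trans hD)) inf_le_right)
      ((o2_isPGroup _).to_le inf_le_left) ?_
    intro g hg
    rw [mem_normalizer_iff_cj, cj_inf, cj_eq_of_mem_normalizer (le_normalizer_o2 _ (hKD hg)), cj_centralizer,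
      cj_eq_of_mem_normalizer (le_normalizer_UR Z R (hg.1))]
  refine ((inf_le_inf_right _ hB).trans h1).trans
    (le_o2 ((MinSimple.VModule.o2_le _).trans inf_le_left) (o2_isPGroup _) ?_)
  intro g hg
  exact Cfsg.Agent.Omega.normalizer_le_normalizer_o2' _ (hKn hg)

/-- **(NO)** at `z` -/
theorem no_z (ml : MLK.{u, u}) {z : G} (hz : z ∈ Z) {B : Subgroup G} (hB : B ≤ o2 (R ⊓ centralizer ({z} : Set G)))
    (el : Ex B) : NOv B (XZ z R) := by
  have hUz : XZ z R ≤ UR Z R := XZ_le_UR hz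
  have hcom : ∀ q ∈ R ⊓ centralizer ({z} : Set G), q * z * q⁻¹ * z⁻¹ = 1 := by
    intro q hq
    have h1 : z * q = q * z := mem_centralizer_iff.1 hq.2 z rfl
    rw [← h1]; group
  have hTz : T ≤ centralizer ({z} : Set G) :=
    h.TZ.trans (centralizer_le (Set.singleton_subset_iff.2 hz))
  unfold NOv
  rw [← inf_relIndex_right (centralizer (XZ z R : Set G)), ← inf_relIndex_right (centralizer (B : Set G))]
  refine ml.grp (C := R) (W := XZ z R) (Y := ⊥) (T := T)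
    (Q := o2 (R ⊓ centralizer ({z} : Set G))) (A := B) (w := z) (kgroup_le h.KY hR)
    { nW := le_normalizer_XZ z R
      nY := by rw [normalizer_eq_top]; exact le_top
      YW := bot_le
      WY := by rw [normalizer_eq_top]; exact le_top
      sq := fun x hx => ?_
      mem := mem_XZ
      gen := fun U h1 _ h3 => XZ_le fun p hp => (mem_normalizer_iff.1 (h3 hp) z).1 h1
      TC := h.TD.trans hD
      two := h.two
      odd := h.sylR hD hR
      fixT := fun t ht => ?_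
      QC := (MinSimple.VModule.o2_le _).trans inf_le_left
      Q2 := o2_isPGroup _
      fixQ := fun q hq => ?_
      nrmQ := fun g hg h1 q hq => ?_
      AQ := hB
      Asq := fun a ha x _ => ?_ } ?_ ?_
  · rw [mem_bot, ← pow_two]
    exact h.ex_UR hD hR x (hUz hx)
  · rw [mem_bot]
    exact hcom t ⟨hD (h.TD ht), hTz ht⟩
  · rw [mem_bot]
    exact hcom q (MinSimple.VModule.o2_le _ hq)
  · rw [mem_bot] at h1
    have h2 : g ∈ R ⊓ centralizer ({z} : Set G) := by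
      refine mem_inf.2 ⟨hg, ?_⟩
      rw [mem_centralizer_iff]
      rintro _ rfl
      have h3 := mul_inv_eq_one.1 h1
      have h4 := mul_inv_eq_iff_eq_mul.1 h3
      exact h4.symm
    exact (mem_normalizer_iff.1 (le_normalizer_o2 _ h2) q).1 hq
  · rw [mem_bot]
    have h1 : a * a = 1 := by rw [← pow_two]; exact el a ha
    calc a * (a * x * a⁻¹) * a⁻¹ * x⁻¹ = (a * a) * x * (a * a)⁻¹ * x⁻¹ := by group
      _ = 1 := by rw [h1]; group
  · intro a
    rw [mem_inf, mem_centralizer_iff]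
    constructor
    · rintro ⟨h1, h2⟩
      refine ⟨h2, fun x hx => ?_⟩
      rw [mem_bot, mul_inv_eq_one, mul_inv_eq_iff_eq_mul]
      exact (h1 x hx).symm
    · rintro ⟨h1, h2⟩
      refine ⟨fun x hx => ?_, h1⟩
      have h3 := h2 x hx
      rw [mem_bot, mul_inv_eq_one, mul_inv_eq_iff_eq_mul] at h3
      exact h3.symm
  · intro x
    rw [mem_inf, mem_centralizer_iff]
    constructor
    · rintro ⟨h1, h2⟩
      refine ⟨h2, fun a ha => ?_⟩
      rw [mem_bot, mul_inv_eq_one, mul_inv_eq_iff_eq_mul]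
      exact h1 a ha
    · rintro ⟨h1, h2⟩
      refine ⟨fun a ha => ?_, h1⟩
      have h3 := h2 a ha
      rw [mem_bot, mul_inv_eq_one, mul_inv_eq_iff_eq_mul] at h3
      exact h3

end R

/-- **(NO) for flags** -/
theorem noFlag (ml : MLK.{u, u}) {R B : Subgroup G} (hD : Y ⊓ centralizer (Z : Set G) ≤ R) (hR : R ≤ Y)
    (hB : B ≤ o2 (Y ⊓ centralizer (Z : Set G))) (el : Ex B) : NOv B (UR Z R) := by
  suffices key : ∀ n : ℕ, ∀ R : Subgroup G, Nat.card R = n → Y ⊓ centralizer (Z : Set G) ≤ R → R ≤ Y →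
      NOv B (UR Z R) from key _ R rfl hD hR
  intro n
  induction n using Nat.strong_induction_on with
  | _ n ih =>
    rintro R rfl hD hR
    by_cases hall : ∀ z ∈ Z, R ≤ centralizer ({z} : Set G)
    · have h1 : R ≤ normalizer (Z : Set G) := by
        refine le_trans ?_ (centralizer_le_normalizer _)
        intro g hg
        rw [mem_centralizer_iff]
        exact fun z hz => mem_centralizer_iff.1 (hall z hz hg) z rfl
      have h2 : B ≤ centralizer (UR Z R : Set G) :=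
        ((hB.trans (MinSimple.VModule.o2_le _)).trans inf_le_right).trans (centralizer_le (UR_le_of le_rfl h1))
      unfold NOv
      rw [relIndex_eq_one.2 h2]
      exact Nat.one_le_iff_ne_zero.2 (rne _ _)
    push Not at hall
    obtain ⟨z, hz, hzR⟩ := hall
    set R₁ := R ⊓ centralizer ({z} : Set G) with hR₁
    have hD₁ : Y ⊓ centralizer (Z : Set G) ≤ R₁ :=
      le_inf hD (inf_le_right.trans (centralizer_le (Set.singleton_subset_iff.2 hz)))
    have hlt : Nat.card R₁ < Nat.card R := by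
      refine lt_of_le_of_ne (Subgroup.card_le_of_le inf_le_left) fun he => hzR ?_
      have h1 : R₁ = R := Subgroup.eq_of_le_of_card_ge inf_le_left he.ge
      rw [← h1]
      exact inf_le_right
    have hRY₁ : R₁ ≤ Y := inf_le_left.trans hR
    have ih₁ := ih _ hlt R₁ rfl hD₁ hRY₁
    have hA₁o : B ⊓ centralizer (UR Z R₁ : Set G) ≤ o2 R₁ := h.inf_le hD₁ hRY₁ hB
    have hz' := h.no_z hD hR ml hz hA₁o (el.mono inf_le_left)
    exact NOv.mul (UR_mono inf_le_left) (XZ_le_UR hz)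
      (((inf_le_inf_right _ hA₁o).trans inf_cent_le).trans (h.o2_le_cent hD hR)) ih₁ hz'

/-- **the input of the end** -/
theorem exists_zPre (ml : MLK.{u, u}) : ∃ (R₀ : Subgroup G) (hn : R₀ ≤ normalizer (UR Z R₀ : Set G)),
    Y ⊓ centralizer (Z : Set G) ≤ R₀ ∧ R₀ ≤ Y ∧ ¬ A ≤ o2 R₀ ∧
      letI := act hn
      ZPre c (T.subgroupOf R₀) (A.subgroupOf R₀) (Z.subgroupOf (UR Z R₀)) := by
  set D := Y ⊓ centralizer (Z : Set G) with hDdef
  obtain ⟨R₀, ⟨hD, hR, hA⟩, hmin⟩ := Set.exists_min_image {R : Subgroup G | D ≤ R ∧ R ≤ Y ∧ ¬ A ≤ o2 R}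
    (fun R => Nat.card R) (Set.toFinite _) ⟨Y, inf_le_left, le_rfl, h.nA⟩
  have hn : R₀ ≤ normalizer (UR Z R₀ : Set G) := le_normalizer_UR Z R₀
  refine ⟨R₀, hn, hD, hR, hA, ?_⟩
  letI := act hn
  have hZU : Z ≤ (UR Z R₀) := le_UR Z R₀
  have hTR : T ≤ R₀ := h.TD.trans hD
  have hAO := h.mx.2.1
  have hAR : A ≤ R₀ := (hAO.trans (MinSimple.VModule.o2_le _)).trans hD
  have hUO : (UR Z R₀) ≤ o2 D := (h.UR_le_o2 hD hR).trans (h.o2_le_O hD hR)
  have hEU : Ex (UR Z R₀) := h.ex_UR hD hR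
  have hsm : ∀ (g : R₀) (x : (UR Z R₀)), ((g • x : (UR Z R₀)) : G) = (g : G) * x * (g : G)⁻¹ := fun _ _ => rfl
  have hfix : ∀ (g : R₀) (x : (UR Z R₀)), g • x = x ↔ (g : G) * x = x * g := by
    intro g x
    rw [Subtype.ext_iff, hsm, mul_inv_eq_iff_eq_mul]
  -- minimality
  have hlow : ∀ R, D ≤ R → R ≤ R₀ → R ≠ R₀ → A ≤ o2 R := by
    intro R h1 h2 h3
    by_contra h4
    have h5 := hmin R ⟨h1, h2.trans hR, h4⟩
    exact h3 (Subgroup.eq_of_le_of_card_ge h2 h5)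
  have hgood : ∀ m (hm : m ∈ Z), ¬ R₀ ≤ centralizer ({m} : Set G) →
      A.subgroupOf R₀ ≤ o2 (MulAction.stabilizer R₀ (⟨m, hZU hm⟩ : (UR Z R₀))) := by
    intro m hm h1
    have h2 : A ≤ o2 (R₀ ⊓ centralizer ({m} : Set G)) := by
      refine hlow _ (le_inf hD (inf_le_right.trans (centralizer_le (Set.singleton_subset_iff.2 hm)))) inf_le_left ?_
      intro h3
      apply h1
      rw [← h3]
      exact inf_le_right
    refine sub_o2 (fun g => ?_) h2
    rw [MulAction.mem_stabilizer_iff, hfix, mem_inf, mem_centralizer_singleton_iff]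
    exact ⟨fun h3 => ⟨g.2, h3⟩, fun h3 => h3.2⟩
  obtain ⟨m₀, hm₀, hmR⟩ : ∃ m ∈ Z, ¬ R₀ ≤ centralizer ({m} : Set G) := by
    by_contra hcon
    push Not at hcon
    apply hA
    have h1 : R₀ ≤ D := by
      refine le_inf hR fun g hg => ?_
      rw [mem_centralizer_iff]
      exact fun z hz => mem_centralizer_iff.1 (hcon z hz hg) z rfl
    rw [le_antisymm h1 hD]
    exact hAO
  have hnT : ∀ g ∈ normalizer (T.subgroupOf R₀ : Set R₀), (g : G) ∈ Y ⊓ normalizer (T : Set G) := by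
    intro g hg
    refine mem_inf.2 ⟨hR g.2, ?_⟩
    rw [mem_normalizer_iff]
    intro t
    constructor
    · intro ht
      exact (mem_normalizer_iff.1 hg ⟨t, hTR ht⟩).1 ht
    · intro ht
      have h1 : (g : G)⁻¹ * ((g : G) * t * (g : G)⁻¹) * (g : G)⁻¹⁻¹ ∈ T :=
        (mem_normalizer_iff.1 (inv_mem hg) ⟨(g : G) * t * (g : G)⁻¹, hTR ht⟩).1 ht
      have e : (g : G)⁻¹ * ((g : G) * t * (g : G)⁻¹) * (g : G)⁻¹⁻¹ = t := by group
      rwa [e] at h1
  have hcv : cv (UR Z R₀) (A.subgroupOf R₀ : Set R₀) = (centralizer (A : Set G)).subgroupOf (UR Z R₀) := by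
    ext x
    rw [mem_subgroupOf, mem_centralizer_iff]
    constructor
    · intro h1 a ha
      exact (hfix ⟨a, hAR ha⟩ x).1 (h1 ⟨a, hAR ha⟩ ha)
    · intro h1 a ha
      exact (hfix a x).2 (h1 a ha)
  have hfxr : fxr R₀ (⊤ : Subgroup (UR Z R₀)) = (centralizer ((UR Z R₀) : Set G)).subgroupOf R₀ := by
    ext g
    rw [mem_subgroupOf, mem_centralizer_iff]
    constructor
    · intro h1 x hx
      exact ((hfix g ⟨x, hx⟩).1 (h1 ⟨x, hx⟩ (mem_top _))).symm
    · intro h1 x _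
      exact (hfix g x).2 (h1 x x.2).symm
  refine
    { sq := fun x => Subtype.ext ?_
      two := h.two.of_equiv (subgroupOfEquivOfLe hTR).symm
      syl := h.sylR hD hR
      TZ := fun t ht z hz => ?_
      nZ := fun g hg z hz => ?_
      par := fun P hP => ?_
      gen := ?_
      fix := fun P hP => ?_
      good := ⟨⟨m₀, hZU hm₀⟩, hm₀, hgood m₀ hm₀ hmR⟩
      el := fun a ha => ?_
      mv := ?_
      le := ?_
      KC := kgroup_le h.KY hR }
  · have h1 := hEU x x.2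
    rw [pow_two] at h1
    exact h1
  · rw [hfix]
    exact (mem_centralizer_iff.1 (h.TZ (mem_subgroupOf.1 ht)) z (mem_subgroupOf.1 hz)).symm
  · rw [mem_subgroupOf, hsm]
    exact (mem_normalizer_iff.1 (h.nZ (hnT g hg)) z).1 (mem_subgroupOf.1 hz)
  · have hP' := minPar_map_subtype hTR hP
    have h1 := h.par _ hP' ((map_subtype_le P).trans hR)
    have h2 : Z.subgroupOf (UR Z R₀) ⊓ cv (UR Z R₀) (P : Set R₀) =
        (Z ⊓ centralizer ((P.map R₀.subtype : Subgroup G) : Set G)).subgroupOf (UR Z R₀) := by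
      ext x
      rw [mem_inf, mem_subgroupOf, mem_subgroupOf, mem_inf, mem_centralizer_iff]
      refine and_congr_right fun _ => ⟨?_, ?_⟩
      · rintro h3 _ ⟨p, hp, rfl⟩
        exact (hfix p x).1 (h3 p hp)
      · intro h3 p hp
        exact (hfix p x).2 (h3 p ⟨p, hp, rfl⟩)
    rw [h2, relIndex_subgroupOf hZU]
    exact h1
  · rw [eq_top_iff]
    have key : (UR Z R₀) ≤ (⨆ z : Z.subgroupOf (UR Z R₀), orb (⊤ : Subgroup R₀) (z : (UR Z R₀))).map (UR Z R₀).subtype := by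
      refine UR_le fun r hr z hz => ?_
      refine ⟨(⟨r, hr⟩ : R₀) • (⟨z, hZU hz⟩ : (UR Z R₀)), ?_, rfl⟩
      exact (le_iSup (fun z : Z.subgroupOf (UR Z R₀) => orb (⊤ : Subgroup R₀) (z : (UR Z R₀))) ⟨⟨z, hZU hz⟩, hz⟩)
        (smul_mem_orb (mem_top _) (mem_orb_self _ _))
    intro x _
    obtain ⟨y, hy, hyx⟩ := key x.2
    rw [← (Subtype.ext hyx : y = x)]
    exact hy
  · have hP' := minPar_map_subtype hTR hP
    have hPY : P.map R₀.subtype ≤ Y := (map_subtype_le P).trans hR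
    have hPf : ∀ m (hm : m ∈ Z), P.map R₀.subtype ≤ centralizer ({m} : Set G) →
        ∀ p ∈ P, p • (⟨m, hZU hm⟩ : (UR Z R₀)) = ⟨m, hZU hm⟩ := by
      intro m hm h1 p hp
      rw [hfix]
      exact (mem_centralizer_iff.1 (h1 ⟨p, hp, rfl⟩) m rfl).symm
    by_cases hPZ : P.map R₀.subtype ≤ centralizer (Z : Set G)
    · exact ⟨⟨m₀, hZU hm₀⟩, hm₀, hPf m₀ hm₀ (hPZ.trans (centralizer_le (Set.singleton_subset_iff.2 hm₀))),
        hgood m₀ hm₀ hmR⟩
    · obtain ⟨m, hm, h1, h2⟩ := h.fix _ hP' hPY hPZ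
      refine ⟨⟨m, hZU hm⟩, hm, hPf m hm h1, hgood m hm fun h3 => hA ?_⟩
      -- `R₀ ≤ C_Y(m)`
      have h4 : R₀ ≤ Y ⊓ centralizer ({m} : Set G) := le_inf hR h3
      have h5 : T ≤ Y ⊓ centralizer ({m} : Set G) := hTR.trans h4
      have h6 : D ≤ Y ⊓ centralizer ({m} : Set G) := hD.trans h4
      have h7 : o2 (Y ⊓ centralizer ({m} : Set G)) ≤ T := h.o2_le_T h6 inf_le_left
      exact h2.trans (le_o2 (h7.trans hTR) (o2_isPGroup _) (h4.trans (le_normalizer_o2 _)))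
  · have h1 := h.mx.1 a (mem_subgroupOf.1 ha)
    rw [pow_two] at h1
    exact Subtype.ext h1
  · by_contra hcon
    push Not at hcon
    apply hA
    have h1 : A ≤ centralizer ((UR Z R₀) : Set G) := by
      intro a ha
      rw [mem_centralizer_iff]
      intro x hx
      exact ((hfix ⟨a, hAR ha⟩ ⟨x, hx⟩).1 (hcon ⟨a, hAR ha⟩ ha ⟨x, hx⟩)).symm
    exact (le_inf le_rfl h1).trans (h.inf_le hD hR hAO)
  · rw [hcv, hfxr, relIndex_subgroupOf hAR]
    exact off_of h.mx hEU hUO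

omit h in
/-- **SIGMA inside `Y`** -/
theorem false_of (ml : MLK.{u, u}) (hE : ML.Ex.Two.Ext.{u, u}) (h : LocIn 2 Y T Z A) : False := by
  obtain ⟨R₀, hn, -, -, -, hz⟩ := h.exists_zPre ml
  letI := act hn
  exact ZPre.false_of ml hE hz

end LocIn

end Cfsg.Agent.Omega.NOThreeL.Sigma
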