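import Cfsg.Agent.Omega.NOThreeL.Sigma.Inst
import Cfsg.Agent.Omega.KL.ZR.End

/-!
# THEOREM SIGMA (#22781), `Thin S`: the plug (helper739)

`MLK` and `Ext` imply `NoZ 2`, `EndT K`, `RSigT K` and `RRank K`.
-/

set_option autoImplicit false

namespace Cfsg.Agent.Omega.NOThreeL.Sigma.Rank

open Cfsg.Agent.Omega.Frame (Cls)
open Cfsg.Agent.Omega.ML.Final (MLK)
open Cfsg.Agent.Omega.ML.Ex.Two (Ext)

universe u v

/-- no input `ZPre 2` -/
theorem noZ (ml : MLK.{u, v}) (hE : Ext.{u, v}) : Inst.NoZ.{u, v} 2 :=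
  fun _ _ _ _ _ _ _ _ _ _ h => h.false_of ml hE

variable {K : Cls.{u}}

theorem endT (ml : MLK.{u, u}) (hE : Ext.{u, u}) : EndT K := Inst.endT_of ml (noZ ml hE)

/-- **THEOREM SIGMA for `Thin S`** -/
theorem rsigT (ml : MLK.{u, u}) (hE : Ext.{u, u}) : RSigT K := rsigT_of ml (endT ml hE)

/-- **THEOREM Z-RANK**: `RRank K` -/
theorem rrank (ml : MLK.{u, u}) (hE : Ext.{u, u}) : RRed.RRank K := rrank_of (rsigT ml hE)

/-- `RFour K` with (L2) -/
theorem rfour (ml : MLK.{u, u}) (hE : Ext.{u, u}) (h4 : RFourL K) : RRed.RFour K := rfour_of (rsigT ml hE) h4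

end Cfsg.Agent.Omega.NOThreeL.Sigma.Rank
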