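import Cfsg.Agent.Omega.NOThreeL.JQ
import Cfsg.Agent.Omega.NOThreeL.ZCut
import Cfsg.Agent.Omega.ML.Final

/-!
# THEOREM SIGMA (#22781, helper863), the front: (NO) for flags, and the family argument

`S` a Sylow 2-subgroup, `Z = Ω₁(Z(S))`, `O = O₂(C_G(Z))`, `IsLong S R`: `R` local, `C_G(Z) ≤ R`, `U_R = zl S R = ⟨Z^R⟩`.
(ML) enters as `MLK`.

* `noFlag` : (1) no elementary abelian subgroup of `O` is an over-offender on `U_R`;
* `inf_le` : (1) `C_O(U_R) ≤ O₂(R)`;
* `exact` : `A` elementary abelian of maximal order in `O`: `|A : C_A(U_R)| = |U_R : C(A)|`;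
* `sigma` : (2) a family of long groups, pairwise joins long, not contained in a long group: there is `A`, elementary
  abelian of maximal order in `O`, `A ≤ O₂(R)` for all members, and a long `R₀` minimal with `A ≰ O₂(R₀)`.
-/

set_option autoImplicit false

namespace Cfsg.Agent.Omega.NOThreeL.Sigma

open Subgroup Cfsg Cfsg.Agent.ZN Cfsg.Agent.ZN.ChoiceBase Cfsg.Agent.Omega.MinPar Cfsg.Agent.Omega.Frame Cfsg.Agent.Omega.FrameNOFF
open Cfsg.Agent.Omega.Node.NO3L
open Cfsg.Agent.Omega.NOThreeL.ZCut (XZ XZ_le mem_XZ conj_mem_XZ le_normalizer_XZ le_cent)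
open Cfsg.Agent.Omega.NoFF.Basic (comm_symm comm_mono)
open Cfsg.Agent.Omega.NoFF.ThmJQ (MxIn exists_mxIn swap)
open Cfsg.Agent.Omega.NoFF.ThmJFam (Ex card_sup_inf)
open Cfsg.Agent.Omega.ML.Final (MLK GDat)
open Cfsg.Agent.MinSimple.VModule (zc_le_zl le_normalizer_zl zl_le zc_le mem_zc le_normalizer_o2 o2_isPGroup o2_le
  le_o2 le_centralizer_zc normalizer_le_normalizer_zc)

universe u

variable {G : Type u} [Group G]

/-- `|A : C_A(U)| ≤ |U : C_U(A)|` -/
def NOv (A U : Subgroup G) : Prop :=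
  (centralizer (U : Set G)).relIndex A ≤ (centralizer (A : Set G)).relIndex U

variable [Finite G] {S : Sylow 2 G}

/-- the stabiliser of a point of `Z` in a long group is long -/
theorem isLong_stab {R : Subgroup G} (hR : IsLong (S : Subgroup G) R) {z : G} (hz : z ∈ zc (S : Subgroup G)) :
    IsLong (S : Subgroup G) (R ⊓ centralizer ({z} : Set G)) :=
  ⟨hR.loc.of_le S (le_inf hR.loc.le (le_cent hz)) inf_le_left,
    le_inf hR.cz (centralizer_le (Set.singleton_subset_iff.2 hz))⟩

theorem IsLong.mono {R X : Subgroup G} (hR : IsLong (S : Subgroup G) R) (hX : X ≤ R)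
    (hC : CZ (S : Subgroup G) ≤ X) (hS : (S : Subgroup G) ≤ X) : IsLong (S : Subgroup G) X :=
  ⟨hR.loc.of_le S hS hX, hC⟩

/-- `O₂(R ∩ C(z)) ∩ C(⟨z^R⟩) ≤ O₂(R)` -/
theorem inf_cent_le {R : Subgroup G} {z : G} :
    o2 (R ⊓ centralizer ({z} : Set G)) ⊓ centralizer (XZ z R : Set G) ≤ o2 R := by
  set R₁ := R ⊓ centralizer ({z} : Set G) with hR₁
  set K := R ⊓ centralizer (XZ z R : Set G) with hK
  have hKR₁ : K ≤ R₁ := le_inf inf_le_left
    (inf_le_right.trans (centralizer_le (Set.singleton_subset_iff.2 mem_XZ)))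
  have hKn : R ≤ normalizer (K : Set G) := by
    intro g hg
    rw [mem_normalizer_iff_cj, hK, cj_inf, cj_centralizer, cj_eq_of_mem_normalizer (le_normalizer hg),
      cj_eq_of_mem_normalizer (le_normalizer_XZ z R hg)]
  have h1 : o2 R₁ ⊓ centralizer (XZ z R : Set G) ≤ o2 K := by
    refine le_o2 (le_inf (inf_le_left.trans ((o2_le _).trans inf_le_left)) inf_le_right)
      ((o2_isPGroup _).to_le inf_le_left) ?_
    intro g hg
    rw [mem_normalizer_iff_cj, cj_inf, cj_eq_of_mem_normalizer (le_normalizer_o2 R₁ (hKR₁ hg)), cj_centralizer,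
      cj_eq_of_mem_normalizer (le_normalizer_XZ z R (hg.1))]
  refine h1.trans (le_o2 ((o2_le _).trans inf_le_left) (o2_isPGroup _) ?_)
  intro g hg
  exact Cfsg.Agent.Omega.normalizer_le_normalizer_o2' _ (hKn hg)

theorem rne (H K : Subgroup G) : H.relIndex K ≠ 0 := index_ne_zero_of_finite

theorem relIndex_le_right {H K L : Subgroup G} (h : K ≤ L) : H.relIndex K ≤ H.relIndex L :=
  relIndex_le_of_le_right h (rne _ _)

theorem relIndex_le_left {H K L : Subgroup G} (h : H ≤ K) : K.relIndex L ≤ H.relIndex L :=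
  relIndex_le_of_le_left h (rne _ _)

/-- Multiplying the inequalities of `(A, U₁)` and of `(C_A(U₁), N)`. -/
theorem NOv.mul {A U U₁ N : Subgroup G} (hU₁ : U₁ ≤ U) (hN : N ≤ U)
    (h : A ⊓ centralizer (U₁ : Set G) ⊓ centralizer (N : Set G) ≤ centralizer (U : Set G)) (h1 : NOv A U₁)
    (h2 : NOv (A ⊓ centralizer (U₁ : Set G)) N) : NOv A U := by
  set A₁ := A ⊓ centralizer (U₁ : Set G) with hA₁
  set K := U ⊓ centralizer (A₁ : Set G) with hK
  have e1 : (centralizer (U : Set G)).relIndex A ≤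
      (centralizer (N : Set G)).relIndex A₁ * (centralizer (U₁ : Set G)).relIndex A := by
    rw [← inf_relIndex_left A (centralizer (U : Set G)), ← relIndex_mul_relIndex (A ⊓ centralizer (U : Set G)) A₁ A
      (inf_le_inf_left _ (centralizer_le hU₁)) inf_le_left]
    refine Nat.mul_le_mul ?_ ?_
    · rw [← inf_relIndex_left A₁ (centralizer (N : Set G))]
      exact relIndex_le_left (le_inf (inf_le_left.trans inf_le_left) h)
    · rw [hA₁, inf_relIndex_left]
  have e2 : (centralizer (A₁ : Set G)).relIndex N * (centralizer (A : Set G)).relIndex U₁ ≤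
      (centralizer (A : Set G)).relIndex U := by
    have hU₁K : U₁ ≤ K := le_inf hU₁ (comm_symm inf_le_right)
    rw [← inf_relIndex_left U (centralizer (A : Set G)), ← relIndex_mul_relIndex (U ⊓ centralizer (A : Set G)) K U
      (inf_le_inf_left _ (centralizer_le inf_le_left)) inf_le_left, Nat.mul_comm]
    refine Nat.mul_le_mul ?_ ?_
    · refine le_trans (le_of_eq ?_) (relIndex_le_right hU₁K)
      rw [← inf_relIndex_right (U ⊓ centralizer (A : Set G)) U₁, ← inf_relIndex_right (centralizer (A : Set G)) U₁]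
      congr 1
      rw [inf_comm U, inf_assoc, inf_eq_right.2 hU₁]
    · rw [hK, inf_relIndex_left]
      exact relIndex_le_right hN
  exact e1.trans ((Nat.mul_le_mul h2 h1).trans e2)

/-- local subgroups are K-groups -/
theorem kg_of (h : Ctx G) (R : Subgroup G) (hR : IsLoc (S : Subgroup G) R) : IsKGroup R := by
  have := h.simple
  exact h.kproper R (hR.ne_top S h.not_isPGroup)

section

variable (hc : IsCharacteristicTwoType G) (ml : MLK.{u, u})
  (kg : ∀ R : Subgroup G, IsLoc (S : Subgroup G) R → IsKGroup R)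
include hc

theorem ex_zl {R : Subgroup G} (hR : IsLoc (S : Subgroup G) R) : Ex (zl (S : Subgroup G) R) :=
  (FFThm.elem_zl hc S hR).2

/-- `O₂(R)` centralises `U_R` -/
theorem o2_le_cent {R : Subgroup G} (hR : IsLoc (S : Subgroup G) R) :
    o2 R ≤ centralizer (zl (S : Subgroup G) R : Set G) :=
  (le_centralizer_zc _).trans (centralizer_le (hR.zl_le S hc))

include ml kg

/-- **(NO)** at `z`. -/
theorem no_z {R : Subgroup G} (hR : IsLoc (S : Subgroup G) R) {z : G} (hz : z ∈ zc (S : Subgroup G))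
    {A : Subgroup G} (hA : A ≤ o2 (R ⊓ centralizer ({z} : Set G))) (el : Ex A) : NOv A (XZ z R) := by
  have hUz : XZ z R ≤ zl (S : Subgroup G) R := XZ_le fun p hp =>
    (mem_normalizer_iff.1 (le_normalizer_zl (S : Subgroup G) R hp) z).1 (zc_le_zl (S : Subgroup G) R hz)
  have hcom : ∀ q ∈ R ⊓ centralizer ({z} : Set G), q * z * q⁻¹ * z⁻¹ = 1 := by
    intro q hq
    have h1 : z * q = q * z := mem_centralizer_iff.1 hq.2 z rfl
    rw [← h1]; group
  unfold NOv
  rw [← inf_relIndex_right (centralizer (XZ z R : Set G)), ← inf_relIndex_right (centralizer (A : Set G))]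
  refine ml.grp (C := R) (W := XZ z R) (Y := ⊥) (T := (S : Subgroup G))
    (Q := o2 (R ⊓ centralizer ({z} : Set G))) (A := A) (w := z) (kg R hR)
    { nW := le_normalizer_XZ z R
      nY := by rw [normalizer_eq_top]; exact le_top
      YW := bot_le
      WY := by rw [normalizer_eq_top]; exact le_top
      sq := fun x hx => ?_
      mem := mem_XZ
      gen := fun U h1 _ h3 => XZ_le fun p hp => (mem_normalizer_iff.1 (h3 hp) z).1 h1
      TC := hR.le
      two := S.isPGroup'
      odd := MinSimple.Basic.not_dvd_relIndex S hR.le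
      fixT := fun t ht => ?_
      QC := (o2_le _).trans inf_le_left
      Q2 := o2_isPGroup _
      fixQ := fun q hq => ?_
      nrmQ := fun g hg h1 q hq => ?_
      AQ := hA
      Asq := fun a ha x _ => ?_ } ?_ ?_
  · rw [mem_bot, ← pow_two]
    exact ex_zl hc hR x (hUz hx)
  · rw [mem_bot]
    exact hcom t ⟨hR.le ht, le_cent hz ht⟩
  · rw [mem_bot]
    exact hcom q (o2_le _ hq)
  · rw [mem_bot] at h1
    have h2 : g ∈ R ⊓ centralizer ({z} : Set G) := by
      refine mem_inf.2 ⟨hg, ?_⟩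
      rw [mem_centralizer_iff]
      rintro _ rfl
      have h3 := mul_inv_eq_one.1 h1
      have h4 := mul_inv_eq_iff_eq_mul.1 h3
      exact h4.symm
    exact (mem_normalizer_iff.1 (le_normalizer_o2 _ h2) q).1 hq
  · rw [mem_bot]
    have h1 : a * a = 1 := by rw [← pow_two]; exact el a ha
    calc a * (a * x * a⁻¹) * a⁻¹ * x⁻¹ = (a * a) * x * (a * a)⁻¹ * x⁻¹ := by group
      _ = 1 := by rw [h1]; group
  · intro a
    rw [mem_inf, mem_centralizer_iff]
    constructor
    · rintro ⟨h1, h2⟩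
      refine ⟨h2, fun x hx => ?_⟩
      rw [mem_bot, mul_inv_eq_one, mul_inv_eq_iff_eq_mul]
      exact (h1 x hx).symm
    · rintro ⟨h1, h2⟩
      refine ⟨fun x hx => ?_, h1⟩
      have h3 := h2 x hx
      rw [mem_bot, mul_inv_eq_one, mul_inv_eq_iff_eq_mul] at h3
      exact h3.symm
  · intro x
    rw [mem_inf, mem_centralizer_iff]
    constructor
    · rintro ⟨h1, h2⟩
      refine ⟨h2, fun a ha => ?_⟩
      rw [mem_bot, mul_inv_eq_one, mul_inv_eq_iff_eq_mul]
      exact h1 a ha
    · rintro ⟨h1, h2⟩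
      refine ⟨fun a ha => ?_, h1⟩
      have h3 := h2 a ha
      rw [mem_bot, mul_inv_eq_one, mul_inv_eq_iff_eq_mul] at h3
      exact h3

omit ml kg in
/-- a subgroup of `O` centralising `U_R` is in `O₂(R)` -/
theorem inf_le {R A : Subgroup G} (hR : IsLong (S : Subgroup G) R) (hA : A ≤ o2 (CZ (S : Subgroup G))) :
    A ⊓ centralizer (zl (S : Subgroup G) R : Set G) ≤ o2 R :=
  Basic.le_o2_of_comm (inf_le_left.trans hA) hR inf_le_right

/-- **(1) (NO) for flags.** -/
theorem noFlag {R A : Subgroup G} (hR : IsLong (S : Subgroup G) R) (hA : A ≤ o2 (CZ (S : Subgroup G)))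
    (el : Ex A) : NOv A (zl (S : Subgroup G) R) := by
  suffices key : ∀ n : ℕ, ∀ R : Subgroup G, Nat.card R = n → IsLong (S : Subgroup G) R →
      NOv A (zl (S : Subgroup G) R) from key _ R rfl hR
  intro n
  induction n using Nat.strong_induction_on with
  | _ n ih =>
    rintro R rfl hR
    by_cases hall : ∀ z ∈ zc (S : Subgroup G), R ≤ centralizer ({z} : Set G)
    · -- `U_R = Z`
      have h1 : R ≤ normalizer (zc (S : Subgroup G) : Set G) := by
        refine le_trans ?_ (centralizer_le_normalizer _)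
        intro g hg
        rw [mem_centralizer_iff]
        exact fun z hz => mem_centralizer_iff.1 (hall z hz hg) z rfl
      have h2 : A ≤ centralizer (zl (S : Subgroup G) R : Set G) :=
        (hA.trans (o2_le _)).trans (centralizer_le (zl_le le_rfl h1))
      unfold NOv
      rw [relIndex_eq_one.2 h2]
      exact Nat.one_le_iff_ne_zero.2 (rne _ _)
    push Not at hall
    obtain ⟨z, hz, hzR⟩ := hall
    set U := zl (S : Subgroup G) R with hU
    set R₁ := R ⊓ centralizer ({z} : Set G) with hR₁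
    have hL₁ : IsLong (S : Subgroup G) R₁ := isLong_stab hR hz
    have hlt : Nat.card R₁ < Nat.card R := by
      refine lt_of_le_of_ne (Subgroup.card_le_of_le inf_le_left) fun he => hzR ?_
      have h1 : R₁ = R := Subgroup.eq_of_le_of_card_ge inf_le_left he.ge
      rw [← h1]
      exact inf_le_right
    have ih₁ := ih _ hlt R₁ rfl hL₁
    set U₁ := zl (S : Subgroup G) R₁ with hU₁
    set N := XZ z R with hN
    set A₁ := A ⊓ centralizer (U₁ : Set G) with hA₁
    have hA₁o : A₁ ≤ o2 R₁ := inf_le hc hL₁ hA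
    have hz' := no_z hc ml kg hR.loc hz hA₁o (el.mono inf_le_left)
    have hU₁U : U₁ ≤ U := zl_le (zc_le_zl _ _) (inf_le_left.trans (le_normalizer_zl _ _))
    have hNU : N ≤ U := XZ_le fun p hp =>
      (mem_normalizer_iff.1 (le_normalizer_zl (S : Subgroup G) R hp) z).1 (zc_le_zl (S : Subgroup G) R hz)
    exact NOv.mul hU₁U hNU
      (((inf_le_inf_right _ hA₁o).trans inf_cent_le).trans (o2_le_cent hc hR.loc)) ih₁ hz'

/-- `|A| |C_U(A)| ≤ |U| |C_A(U)|` -/
theorem card_le {R A : Subgroup G} (hR : IsLong (S : Subgroup G) R) (hA : A ≤ o2 (CZ (S : Subgroup G)))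
    (el : Ex A) :
    Nat.card A * Nat.card (zl (S : Subgroup G) R ⊓ centralizer (A : Set G) : Subgroup G) ≤
      Nat.card (zl (S : Subgroup G) R) * Nat.card (A ⊓ centralizer (zl (S : Subgroup G) R : Set G) : Subgroup G) := by
  exact (FFThm.relIndex_le_iff (B := centralizer (A : Set G))).2 (noFlag hc ml kg hR hA el)

/-- replacement: `U_R C_A(U_R)` -/
theorem swap_mx {R A : Subgroup G} (hR : IsLong (S : Subgroup G) R) (hA : MxIn (o2 (CZ (S : Subgroup G))) A) :
    MxIn (o2 (CZ (S : Subgroup G)))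
      (zl (S : Subgroup G) R ⊔ A ⊓ centralizer (zl (S : Subgroup G) R : Set G)) :=
  swap hA (ex_zl hc hR.loc) ((hR.zl_le_o2 hc S).trans (hR.o2_le S)) (card_le hc ml kg hR hA.2.1 hA.1)

/-- `A` is trivial or exact on `U_R`. -/
theorem exact {R A : Subgroup G} (hR : IsLong (S : Subgroup G) R) (hA : MxIn (o2 (CZ (S : Subgroup G))) A) :
    (centralizer (A : Set G)).relIndex (zl (S : Subgroup G) R) =
      (centralizer (zl (S : Subgroup G) R : Set G)).relIndex A := by
  refine le_antisymm ?_ (noFlag hc ml kg hR hA.2.1 hA.1)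
  by_cases h : A ≤ centralizer (zl (S : Subgroup G) R : Set G)
  · rw [relIndex_eq_one.2 h, relIndex_eq_one.2 (comm_symm h)]
  · exact FFThm.relIndex_le_iff.1 (JQ.off_jq hc S hA hR h).le

/-- a member of `AA(O)` in the `O₂` of all members of a family of pairwise compatible long groups -/
theorem exists_low {RR : Set (Subgroup G)} (hL : ∀ R ∈ RR, IsLong (S : Subgroup G) R)
    (hp : ∀ R ∈ RR, ∀ R' ∈ RR, IsLoc (S : Subgroup G) (R ⊔ R')) :
    ∃ A, MxIn (o2 (CZ (S : Subgroup G))) A ∧ ∀ R ∈ RR, A ≤ o2 R := by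
  classical
  have key : ∀ s : Finset (Subgroup G), (∀ R ∈ s, R ∈ RR) →
      ∃ A, MxIn (o2 (CZ (S : Subgroup G))) A ∧ ∀ R ∈ s, A ≤ o2 R := by
    intro s
    induction s using Finset.induction_on with
    | empty =>
      obtain ⟨A, hA⟩ := exists_mxIn (o2 (CZ (S : Subgroup G)))
      exact fun _ => ⟨A, hA, by simp⟩
    | insert R' s _ ih =>
      intro hs
      obtain ⟨A, hA, h1⟩ := ih fun R hR => hs R (Finset.mem_insert_of_mem hR)
      have hR' := hs R' (Finset.mem_insert_self _ _)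
      refine ⟨_, swap_mx hc ml kg (hL R' hR') hA, ?_⟩
      intro R hR
      rw [Finset.mem_insert] at hR
      rcases hR with rfl | hR
      · exact sup_le ((hL R hR').zl_le_o2 hc S) (inf_le hc (hL R hR') hA.2.1)
      · refine sup_le ?_ (inf_le_left.trans (h1 R hR))
        have hRR := hs R (Finset.mem_insert_of_mem hR)
        have hj : IsLong (S : Subgroup G) (R ⊔ R') := ⟨hp R hRR R' hR', (hL R hRR).cz.trans le_sup_left⟩
        have h2 : zl (S : Subgroup G) R' ≤ zl (S : Subgroup G) (R ⊔ R') :=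
          zl_le (zc_le_zl _ _) (le_sup_right.trans (le_normalizer_zl _ _))
        exact h2.trans ((hj.zl_le_o2 hc S).trans (o2_le_o2 S (hL R hRR).loc.le le_sup_left))
  obtain ⟨A, hA, h1⟩ := key (Set.toFinite RR).toFinset fun R hR => (Set.Finite.mem_toFinset _).1 hR
  exact ⟨A, hA, fun R hR => h1 R ((Set.Finite.mem_toFinset _).2 hR)⟩

/-- **(2)** THEOREM SIGMA, the family argument. -/
theorem sigma (hS : (S : Subgroup G) ≠ ⊥) {RR : Set (Subgroup G)}
    (hL : ∀ R ∈ RR, IsLong (S : Subgroup G) R)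
    (hp : ∀ R ∈ RR, ∀ R' ∈ RR, IsLoc (S : Subgroup G) (R ⊔ R'))
    (hn : ¬ ∃ R, IsLong (S : Subgroup G) R ∧ ∀ R' ∈ RR, R' ≤ R) :
    ∃ A R₀, MxIn (o2 (CZ (S : Subgroup G))) A ∧ (∀ R ∈ RR, A ≤ o2 R) ∧ IsLong (S : Subgroup G) R₀ ∧
      ¬ A ≤ o2 R₀ ∧ ∀ R', IsLong (S : Subgroup G) R' → R' < R₀ → A ≤ o2 R' := by
  set O := o2 (CZ (S : Subgroup G)) with hO
  have hCl : IsLong (S : Subgroup G) (CZ (S : Subgroup G)) := ⟨isLoc_centralizer_zc S hS, le_rfl⟩
  -- some `A`, some long `R`
  have h1 : ∃ A, (MxIn O A ∧ ∀ R ∈ RR, A ≤ o2 R) ∧ ∃ R, IsLong (S : Subgroup G) R ∧ ¬ A ≤ o2 R := by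
    by_contra hcon
    push Not at hcon
    set W : Subgroup G := sSup {A | MxIn O A ∧ ∀ R ∈ RR, A ≤ o2 R} with hW
    have hne : RR.Nonempty := by
      by_contra h0
      rw [Set.not_nonempty_iff_eq_empty] at h0
      exact hn ⟨_, hCl, by simp [h0]⟩
    obtain ⟨R₁, hR₁⟩ := hne
    have hWO : W ≤ O := sSup_le fun A hA => hA.1.2.1
    have hW1 : W ≠ ⊥ := by
      obtain ⟨A, hA, h2⟩ := exists_low hc ml kg hL hp
      intro h3
      have h4 : A ≤ W := le_sSup ⟨hA, h2⟩
      rw [h3, le_bot_iff] at h4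
      have h5 := hA.2.2 (zc (S : Subgroup G)) (MinSimple.VModule.zc_sq _)
        ((zc_le_zl _ _).trans (hCl.zl_le_o2 hc S))
      rw [h4, Subgroup.card_bot] at h5
      exact MinSimple.Basic.zc_ne_bot S.isPGroup' hS ((Subgroup.card_le_one_iff_eq_bot _).1 h5)
    have hnorm : ∀ R ∈ RR, R ≤ normalizer (W : Set G) := by
      intro R hR
      have key : ∀ r ∈ R, cj r W ≤ W := by
        intro r hr
        rw [cj, map_le_iff_le_comap]
        refine sSup_le fun A hA => ?_
        rw [← map_le_iff_le_comap]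
        have h2 : ∀ R' ∈ RR, A.map (MulAut.conj r).toMonoidHom ≤ o2 R' := by
          intro R' hR'
          have hj : IsLong (S : Subgroup G) (R ⊔ R') := ⟨hp R hR R' hR', (hL R hR).cz.trans le_sup_left⟩
          have h3 := hcon A hA _ hj
          have h4 : cj r A ≤ cj r (o2 (R ⊔ R')) := cj_mono r h3
          rw [cj_eq_of_mem_normalizer (le_normalizer_o2 _ ((le_sup_left : R ≤ R ⊔ R') hr))] at h4
          exact h4.trans (o2_le_o2 S (hL R' hR').loc.le le_sup_right)
        refine le_sSup ⟨⟨?_, (h2 R hR).trans ((hL R hR).o2_le S), fun B hB hBO => ?_⟩, h2⟩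
        · rintro _ ⟨a, ha, rfl⟩
          rw [← map_pow, hA.1.1 a ha, map_one]
        · rw [Subgroup.card_map_of_injective (MulAut.conj r).injective]
          exact hA.1.2.2 B hB hBO
      intro r hr
      rw [mem_normalizer_iff_cj]
      refine le_antisymm (key r hr) ?_
      have h2 := cj_mono r (key r⁻¹ (inv_mem hr))
      rwa [cj_cj_inv] at h2
    refine hn ⟨normalizer (W : Set G), ⟨?_, (hL R₁ hR₁).cz.trans (hnorm R₁ hR₁)⟩, hnorm⟩
    exact isLoc_normalizer S ((o2_isPGroup _).to_le hWO) hW1 ((hL R₁ hR₁).loc.le.trans (hnorm R₁ hR₁))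
  obtain ⟨A, ⟨hA, hAR⟩, R, hR, hAn⟩ := h1
  obtain ⟨R₀, ⟨h2, h3⟩, h4⟩ := Set.exists_min_image {R | IsLong (S : Subgroup G) R ∧ ¬ A ≤ o2 R}
    (fun R => Nat.card R) (Set.toFinite _) ⟨R, hR, hAn⟩
  refine ⟨A, R₀, hA, hAR, h2, h3, fun R' hR' hlt => ?_⟩
  by_contra h5
  have h6 := h4 R' ⟨hR', h5⟩
  have h7 : Nat.card R' < Nat.card R₀ := by
    refine lt_of_le_of_ne (Subgroup.card_le_of_le hlt.le) fun he => ?_
    exact hlt.ne (Subgroup.eq_of_le_of_card_ge hlt.le he.ge)
  omega

end

end Cfsg.Agent.Omega.NOThreeL.Sigma
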