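import Cfsg.Agent.Omega.NOThreeL.Sigma.Loc

/-!
# (NO) for flags, with the fields which are needed only (port of helper863's `Sigma/Loc`; helper739)

`T` a Sylow 2-subgroup of `Y`, `Z ≤ T` elementary abelian, centralised by `T`, all `R` with `C_Y(Z) ≤ R ≤ Y` have
`Z ≤ O₂(R)`:

* `FlIn Y T Z` : this situation;
* `FlIn.noFlag` : (NO) for `B ≤ O₂(C_Y(Z))` elementary abelian on `⟨Z^R⟩`.
-/

set_option autoImplicit false
set_option linter.unusedSectionVars false

namespace Cfsg.Agent.Omega.NOThreeL.Sigma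

open Subgroup Cfsg Cfsg.Agent.ZN Cfsg.Agent.ZN.ChoiceBase Cfsg.Agent.Omega.MinPar
open Cfsg.Agent.Omega.NOThreeL.ZCut (XZ XZ_le mem_XZ conj_mem_XZ le_normalizer_XZ)
open Cfsg.Agent.Omega.NoFF.Basic (comm_symm comm_mono)
open Cfsg.Agent.Omega.NoFF.ThmJFam (Ex card_sup_inf)
open Cfsg.Agent.Omega.ML.Final (MLK GDat kgroup_of_surj)
open Cfsg.Agent.MinSimple.VModule (le_normalizer_o2 o2_isPGroup o2_le le_o2)
open Cfsg.Agent.ClassTwoFusion.Quad Cfsg.Agent.Omega.ML.MinFrame

universe u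

variable {G : Type u} [Group G]

/-- **the input of the flags** -/
structure FlIn (Y T Z : Subgroup G) : Prop where
  two : IsPGroup 2 T
  TY : T ≤ Y
  syl : ¬ 2 ∣ T.relIndex Y
  ZT : Z ≤ T
  TZ : T ≤ centralizer (Z : Set G)
  sq : ∀ z ∈ Z, z ^ 2 = 1
  ch : ∀ R, Y ⊓ centralizer (Z : Set G) ≤ R → R ≤ Y → Z ≤ o2 R
  KY : IsKGroup Y

variable [Finite G]

namespace FlIn

variable {Y T Z : Subgroup G} (h : FlIn Y T Z)
include h

theorem TD : T ≤ Y ⊓ centralizer (Z : Set G) := le_inf h.TY h.TZ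

section R

variable {R : Subgroup G} (hD : Y ⊓ centralizer (Z : Set G) ≤ R) (hR : R ≤ Y)
include hD hR

theorem sylR : ¬ 2 ∣ T.relIndex R := fun h1 => by
  apply h.syl
  rw [← relIndex_mul_relIndex T R Y (h.TD.trans hD) hR]
  exact h1.mul_right _

theorem o2_le_T : o2 R ≤ T := MinSimple.VModule.o2_le_of_sylow h.two (h.sylR hD hR)

theorem o2_le_O : o2 R ≤ o2 (Y ⊓ centralizer (Z : Set G)) :=
  le_o2 ((h.o2_le_T hD hR).trans h.TD) (o2_isPGroup _) (hD.trans (le_normalizer_o2 R))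

theorem UR_le_o2 : UR Z R ≤ o2 R := UR_le_of (h.ch R hD hR) (le_normalizer_o2 R)

/-- `O₂(R)` centralises `⟨Z^R⟩` -/
theorem o2_le_cent : o2 R ≤ centralizer (UR Z R : Set G) := by
  refine comm_symm (UR_le fun r hr z hz => ?_)
  rw [mem_centralizer_iff]
  intro x hx
  have h1 : r⁻¹ * x * r ∈ o2 R := by
    have := (mem_normalizer_iff.1 (inv_mem (le_normalizer_o2 R hr)) x).1 hx
    rwa [inv_inv] at this
  have h2 : z * (r⁻¹ * x * r) = (r⁻¹ * x * r) * z :=
    mem_centralizer_iff.1 (h.TZ (h.o2_le_T hD hR h1)) z hz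
  calc x * (r * z * r⁻¹) = r * ((r⁻¹ * x * r) * z) * r⁻¹ := by group
    _ = r * (z * (r⁻¹ * x * r)) * r⁻¹ := by rw [h2]
    _ = r * z * r⁻¹ * x := by group

theorem ex_UR : Ex (UR Z R) := by
  have hc : UR Z R ≤ centralizer (UR Z R : Set G) := (h.UR_le_o2 hD hR).trans (h.o2_le_cent hD hR)
  intro x hx
  have key : ∀ x ∈ UR Z R, x ∈ UR Z R ∧ x ^ 2 = 1 := by
    intro x hx
    rw [UR] at hx
    induction hx using closure_induction with
    | mem x hx =>
      obtain ⟨r, hr, z, hz, rfl⟩ := hx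
      refine ⟨conj_mem_UR hr hz, ?_⟩
      have h1 := h.sq z hz
      rw [pow_two] at h1 ⊢
      calc r * z * r⁻¹ * (r * z * r⁻¹) = r * (z * z) * r⁻¹ := by group
        _ = 1 := by rw [h1]; group
    | one => exact ⟨one_mem _, one_pow 2⟩
    | mul x y _ _ hx hy =>
      refine ⟨mul_mem hx.1 hy.1, ?_⟩
      have h1 : Commute x y := (mem_centralizer_iff.1 (hc hy.1) x hx.1)
      rw [h1.mul_pow, hx.2, hy.2, one_mul]
    | inv x _ hx => exact ⟨inv_mem hx.1, by rw [inv_pow, hx.2, inv_one]⟩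
  exact (key x hx).2

/-- `C_O(⟨Z^R⟩) ≤ O₂(R)` -/
theorem inf_le {B : Subgroup G} (hB : B ≤ o2 (Y ⊓ centralizer (Z : Set G))) :
    B ⊓ centralizer (UR Z R : Set G) ≤ o2 R := by
  set O := o2 (Y ⊓ centralizer (Z : Set G)) with hO
  set K := R ⊓ centralizer (UR Z R : Set G) with hK
  have hKD : K ≤ Y ⊓ centralizer (Z : Set G) :=
    le_inf (inf_le_left.trans hR) (inf_le_right.trans (centralizer_le (le_UR Z R)))
  have hKn : R ≤ normalizer (K : Set G) := by
    intro g hg
    rw [mem_normalizer_iff_cj, hK, cj_inf, cj_centralizer, cj_eq_of_mem_normalizer (le_normalizer hg),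
      cj_eq_of_mem_normalizer (le_normalizer_UR Z R hg)]
  have h1 : O ⊓ centralizer (UR Z R : Set G) ≤ o2 K := by
    refine le_o2 (le_inf (inf_le_left.trans ((MinSimple.VModule.o2_le _).trans hD)) inf_le_right)
      ((o2_isPGroup _).to_le inf_le_left) ?_
    intro g hg
    rw [mem_normalizer_iff_cj, cj_inf, cj_eq_of_mem_normalizer (le_normalizer_o2 _ (hKD hg)), cj_centralizer,
      cj_eq_of_mem_normalizer (le_normalizer_UR Z R (hg.1))]
  refine ((inf_le_inf_right _ hB).trans h1).trans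
    (le_o2 ((MinSimple.VModule.o2_le _).trans inf_le_left) (o2_isPGroup _) ?_)
  intro g hg
  exact Cfsg.Agent.Omega.normalizer_le_normalizer_o2' _ (hKn hg)

/-- **(NO)** at `z` -/
theorem no_z (ml : MLK.{u, u}) {z : G} (hz : z ∈ Z) {B : Subgroup G} (hB : B ≤ o2 (R ⊓ centralizer ({z} : Set G)))
    (el : Ex B) : NOv B (XZ z R) := by
  have hUz : XZ z R ≤ UR Z R := XZ_le_UR hz
  have hcom : ∀ q ∈ R ⊓ centralizer ({z} : Set G), q * z * q⁻¹ * z⁻¹ = 1 := by
    intro q hq
    have h1 : z * q = q * z := mem_centralizer_iff.1 hq.2 z rfl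
    rw [← h1]; group
  have hTz : T ≤ centralizer ({z} : Set G) :=
    h.TZ.trans (centralizer_le (Set.singleton_subset_iff.2 hz))
  unfold NOv
  rw [← inf_relIndex_right (centralizer (XZ z R : Set G)), ← inf_relIndex_right (centralizer (B : Set G))]
  refine ml.grp (C := R) (W := XZ z R) (Y := ⊥) (T := T)
    (Q := o2 (R ⊓ centralizer ({z} : Set G))) (A := B) (w := z) (kgroup_le h.KY hR)
    { nW := le_normalizer_XZ z R
      nY := by rw [normalizer_eq_top]; exact le_top
      YW := bot_le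
      WY := by rw [normalizer_eq_top]; exact le_top
      sq := fun x hx => ?_
      mem := mem_XZ
      gen := fun U h1 _ h3 => XZ_le fun p hp => (mem_normalizer_iff.1 (h3 hp) z).1 h1
      TC := h.TD.trans hD
      two := h.two
      odd := h.sylR hD hR
      fixT := fun t ht => ?_
      QC := (MinSimple.VModule.o2_le _).trans inf_le_left
      Q2 := o2_isPGroup _
      fixQ := fun q hq => ?_
      nrmQ := fun g hg h1 q hq => ?_
      AQ := hB
      Asq := fun a ha x _ => ?_ } ?_ ?_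
  · rw [mem_bot, ← pow_two]
    exact h.ex_UR hD hR x (hUz hx)
  · rw [mem_bot]
    exact hcom t ⟨hD (h.TD ht), hTz ht⟩
  · rw [mem_bot]
    exact hcom q (MinSimple.VModule.o2_le _ hq)
  · rw [mem_bot] at h1
    have h2 : g ∈ R ⊓ centralizer ({z} : Set G) := by
      refine mem_inf.2 ⟨hg, ?_⟩
      rw [mem_centralizer_iff]
      rintro _ rfl
      have h3 := mul_inv_eq_one.1 h1
      have h4 := mul_inv_eq_iff_eq_mul.1 h3
      exact h4.symm
    exact (mem_normalizer_iff.1 (le_normalizer_o2 _ h2) q).1 hq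
  · rw [mem_bot]
    have h1 : a * a = 1 := by rw [← pow_two]; exact el a ha
    calc a * (a * x * a⁻¹) * a⁻¹ * x⁻¹ = (a * a) * x * (a * a)⁻¹ * x⁻¹ := by group
      _ = 1 := by rw [h1]; group
  · intro a
    rw [mem_inf, mem_centralizer_iff]
    constructor
    · rintro ⟨h1, h2⟩
      refine ⟨h2, fun x hx => ?_⟩
      rw [mem_bot, mul_inv_eq_one, mul_inv_eq_iff_eq_mul]
      exact (h1 x hx).symm
    · rintro ⟨h1, h2⟩
      refine ⟨fun x hx => ?_, h1⟩
      have h3 := h2 x hx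
      rw [mem_bot, mul_inv_eq_one, mul_inv_eq_iff_eq_mul] at h3
      exact h3.symm
  · intro x
    rw [mem_inf, mem_centralizer_iff]
    constructor
    · rintro ⟨h1, h2⟩
      refine ⟨h2, fun a ha => ?_⟩
      rw [mem_bot, mul_inv_eq_one, mul_inv_eq_iff_eq_mul]
      exact h1 a ha
    · rintro ⟨h1, h2⟩
      refine ⟨fun a ha => ?_, h1⟩
      have h3 := h2 a ha
      rw [mem_bot, mul_inv_eq_one, mul_inv_eq_iff_eq_mul] at h3
      exact h3

end R

/-- **(NO) for flags** -/
theorem noFlag (ml : MLK.{u, u}) {R B : Subgroup G} (hD : Y ⊓ centralizer (Z : Set G) ≤ R) (hR : R ≤ Y)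
    (hB : B ≤ o2 (Y ⊓ centralizer (Z : Set G))) (el : Ex B) : NOv B (UR Z R) := by
  suffices key : ∀ n : ℕ, ∀ R : Subgroup G, Nat.card R = n → Y ⊓ centralizer (Z : Set G) ≤ R → R ≤ Y →
      NOv B (UR Z R) from key _ R rfl hD hR
  intro n
  induction n using Nat.strong_induction_on with
  | _ n ih =>
    rintro R rfl hD hR
    by_cases hall : ∀ z ∈ Z, R ≤ centralizer ({z} : Set G)
    · have h1 : R ≤ normalizer (Z : Set G) := by
        refine le_trans ?_ (centralizer_le_normalizer _)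
        intro g hg
        rw [mem_centralizer_iff]
        exact fun z hz => mem_centralizer_iff.1 (hall z hz hg) z rfl
      have h2 : B ≤ centralizer (UR Z R : Set G) :=
        ((hB.trans (MinSimple.VModule.o2_le _)).trans inf_le_right).trans (centralizer_le (UR_le_of le_rfl h1))
      unfold NOv
      rw [relIndex_eq_one.2 h2]
      exact Nat.one_le_iff_ne_zero.2 (rne _ _)
    push Not at hall
    obtain ⟨z, hz, hzR⟩ := hall
    set R₁ := R ⊓ centralizer ({z} : Set G) with hR₁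
    have hD₁ : Y ⊓ centralizer (Z : Set G) ≤ R₁ :=
      le_inf hD (inf_le_right.trans (centralizer_le (Set.singleton_subset_iff.2 hz)))
    have hlt : Nat.card R₁ < Nat.card R := by
      refine lt_of_le_of_ne (Subgroup.card_le_of_le inf_le_left) fun he => hzR ?_
      have h1 : R₁ = R := Subgroup.eq_of_le_of_card_ge inf_le_left he.ge
      rw [← h1]
      exact inf_le_right
    have hRY₁ : R₁ ≤ Y := inf_le_left.trans hR
    have ih₁ := ih _ hlt R₁ rfl hD₁ hRY₁
    have hA₁o : B ⊓ centralizer (UR Z R₁ : Set G) ≤ o2 R₁ := h.inf_le hD₁ hRY₁ hB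
    have hz' := h.no_z hD hR ml hz hA₁o (el.mono inf_le_left)
    exact NOv.mul (UR_mono inf_le_left) (XZ_le_UR hz)
      (((inf_le_inf_right _ hA₁o).trans inf_cent_le).trans (h.o2_le_cent hD hR)) ih₁ hz'

end FlIn

end Cfsg.Agent.Omega.NOThreeL.Sigma
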