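import Cfsg.Agent.Omega.NOThreeL.Sigma.Glue
import Cfsg.Agent.Omega.KL.ZR.Def

/-!
# THEOREM SIGMA (#22781): from the front to the module `U_{R₀} = ⟨Z^{R₀}⟩` (helper739)

`Out S A R₀` (Sigma/Glue.lean): `R₀` long, minimal with `A ≰ O₂(R₀)`, `A ≤ O₂(C_P)` for all `P ∈ P*(S)`.

* `act` : conjugation;
* `moved` : some `z ∈ Z` is moved by `R₀`;  `low` : `A ≤ O₂(R₀ ∩ C(z))` for every such `z`;
* **`zpre`** : `R₀` on `⟨Z^{R₀}⟩` is an input `ZPre c` of the end (`KL/ZR`), if `|Z : C_Z(P)| ≤ c` for all `P ∈ P*(S)`;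
* `NoZ c` : no input `ZPre c`;  `false_of`;
* **`endT_of : NoZ 2 → EndT K`**, **`endA_of : (∀ c, NoZ c) → EndA K`**.
-/

set_option autoImplicit false
set_option linter.unusedSectionVars false

namespace Cfsg.Agent.Omega.NOThreeL.Sigma.Inst

open Subgroup Cfsg Cfsg.Agent.ZN Cfsg.Agent.Omega.MinPar Cfsg.Agent.Omega.Frame Cfsg.Agent.Omega.FrameNOFF
open Cfsg.Agent.Omega.Node.NO3L Cfsg.Agent.Omega.NOThreeL.Basic Cfsg.Agent.Omega.NOThreeL.RTree
open Cfsg.Agent.ClassTwoFusion.Quad Cfsg.Agent.Omega.ML.MinFrame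
open Cfsg.Agent.Omega.NOThreeL.RRed (Thin)
open Cfsg.Agent.Omega.NOThreeL.ZCut (le_cent)
open Cfsg.Agent.Omega.NoFF.ThmJQ (MxIn)
open Cfsg.Agent.Omega.ML.Final (MLK)
open Cfsg.Agent.Omega.KL.ZR (ZTwo ZPre)
open Cfsg.Agent.MinSimple.MinParabolic (IsMinPar)
open Cfsg.Agent.MinSimple.VModule (o2_isPGroup)

universe u v

/-! ### Tools -/

section tools

variable {G : Type u} [Group G]

/-- conjugation -/
abbrev act {C W : Subgroup G} (h : C ≤ normalizer (W : Set G)) : MulDistribMulAction C W where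
  smul c w := ⟨(c : G) * w * (c : G)⁻¹, (mem_normalizer_iff.1 (h c.2) w).1 w.2⟩
  one_smul w := Subtype.ext (by change ((1 : C) : G) * w * ((1 : C) : G)⁻¹ = w; simp)
  mul_smul a b w := Subtype.ext (by
    change ((a * b : C) : G) * w * ((a * b : C) : G)⁻¹ = (a : G) * ((b : G) * w * (b : G)⁻¹) * (a : G)⁻¹
    push_cast; group)
  smul_mul c v w := Subtype.ext (by
    change (c : G) * ((v * w : W) : G) * (c : G)⁻¹ = ((c : G) * v * (c : G)⁻¹) * ((c : G) * w * (c : G)⁻¹)
    push_cast; group)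
  smul_one c := Subtype.ext (by change (c : G) * ((1 : W) : G) * (c : G)⁻¹ = ((1 : W) : G); simp)

/-- minimal parabolics of a subgroup -/
theorem minPar_map {C T : Subgroup G} (hTC : T ≤ C) {P : Subgroup C} (hP : IsMinPar (T.subgroupOf C) P) :
    IsMinPar T (P.map C.subtype) := by
  have hTP : T ≤ P.map C.subtype := fun t ht => ⟨⟨t, hTC ht⟩, hP.le (mem_subgroupOf.2 ht), rfl⟩
  refine ⟨hTP, fun h => hP.not_le fun p hp => ?_, ?_⟩
  · have h1 := h (mem_map_of_mem C.subtype hp)
    rw [mem_normalizer_iff] at h1 ⊢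
    exact fun t => h1 t
  · obtain ⟨M, hMP, hM⟩ := hP.exists_max
    refine ⟨M.map C.subtype, (map_lt_map_iff_of_injective C.subtype_injective).2 hMP, fun K hTK hKP => ?_⟩
    have hKC : K ≤ C := hKP.le.trans (map_subtype_le P)
    have e : (K.subgroupOf C).map C.subtype = K := by rw [subgroupOf_map_subtype, inf_eq_left.2 hKC]
    rw [← e] at hKP ⊢
    refine map_mono (hM _ ?_ ((map_lt_map_iff_of_injective C.subtype_injective).1 hKP))
    exact fun t ht => mem_subgroupOf.2 (hTK (mem_subgroupOf.1 ht))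

/-- `O₂` of a subgroup of `C` -/
theorem sub_o2 [Finite G] {C S B : Subgroup G} {S' : Subgroup C} (hS : ∀ c : C, c ∈ S' ↔ (c : G) ∈ S) (hB : B ≤ o2 S) :
    B.subgroupOf C ≤ o2 S' := by
  have h1 : B.subgroupOf C ≤ (o2 S).subgroupOf C := fun b hb => mem_subgroupOf.2 (hB (mem_subgroupOf.1 hb))
  refine h1.trans (le_o2 (fun c hc => (hS c).2 (o2_le _ (mem_subgroupOf.1 hc)))
    ((o2_isPGroup S).comap_of_injective C.subtype C.subtype_injective) fun s hs => ?_)
  have h2 := le_normalizer_o2 S ((hS s).1 hs)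
  rw [mem_normalizer_iff] at h2 ⊢
  exact fun t => h2 t

end tools

section inst

variable {G : Type u} [Group G] [Finite G] {S : Sylow 2 G} {A R₀ : Subgroup G}

/-- some `z ∈ Z` is moved by `R₀` -/
theorem moved (o : Out (S : Subgroup G) A R₀) :
    ∃ z ∈ zc (S : Subgroup G), ¬ R₀ ≤ centralizer ({z} : Set G) := by
  by_contra hcon
  push Not at hcon
  have h1 : R₀ ≤ CZ (S : Subgroup G) := by
    intro g hg
    rw [mem_centralizer_iff]
    exact fun z hz => mem_centralizer_iff.1 (hcon z hz hg) z rfl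
  have h2 : R₀ = CZ (S : Subgroup G) := le_antisymm h1 o.long.cz
  exact o.not (h2 ▸ o.mx.2.1)

/-- `A ≤ O₂(R₀ ∩ C(z))` for every `z ∈ Z` moved by `R₀` -/
theorem low (o : Out (S : Subgroup G) A R₀) {z : G} (hz : z ∈ zc (S : Subgroup G))
    (hm : ¬ R₀ ≤ centralizer ({z} : Set G)) : A ≤ o2 (R₀ ⊓ centralizer ({z} : Set G)) :=
  o.min _ (isLong_stab o.long hz) (lt_of_le_of_ne inf_le_left fun h => hm (h ▸ inf_le_right))

/-- `P ∈ P*(S)`: some `z ∈ C_Z(P)` is moved by `R₀` -/
theorem moved_par (o : Out (S : Subgroup G) A R₀) {P : Subgroup G} (hP : IsParS (S : Subgroup G) P) :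
    ∃ z ∈ ZP (S : Subgroup G) P, ¬ R₀ ≤ centralizer ({z} : Set G) := by
  by_contra hcon
  push Not at hcon
  have h1 : R₀ ≤ CP (S : Subgroup G) P := by
    intro g hg
    rw [CP, mem_centralizer_iff]
    exact fun z hz => mem_centralizer_iff.1 (hcon z hz hg) z rfl
  exact o.not ((o.le P hP).trans (o2_le_o2 S o.long.loc.le h1))

theorem le_R (o : Out (S : Subgroup G) A R₀) : A ≤ R₀ := o.mx.2.1.trans ((o2_le _).trans o.long.cz)

/-- **the input of the end of THEOREM SIGMA** -/
theorem zpre (hc : IsCharacteristicTwoType G) (ml : MLK.{u, u})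
    (kg : ∀ R : Subgroup G, IsLoc (S : Subgroup G) R → IsKGroup R) (o : Out (S : Subgroup G) A R₀) {c : ℕ}
    (c1 : 1 ≤ c)
    (par : ∀ P, IsParS (S : Subgroup G) P → (centralizer (P : Set G)).relIndex (zc (S : Subgroup G)) ≤ c) :
    letI := act (le_normalizer_zl (S : Subgroup G) R₀)
    ZPre c ((S : Subgroup G).subgroupOf R₀) (A.subgroupOf R₀)
      ((zc (S : Subgroup G)).subgroupOf (zl (S : Subgroup G) R₀)) := by
  let _ := act (le_normalizer_zl (S : Subgroup G) R₀)
  have hZU := MinSimple.VModule.zc_le_zl (S : Subgroup G) R₀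
  have hSR := o.long.loc.le
  -- fixed vectors
  have hfx : ∀ (g : R₀) (m : zl (S : Subgroup G) R₀), g • m = m ↔ (g : G) * m = m * g := by
    intro g m
    rw [Subtype.ext_iff]
    exact mul_inv_eq_iff_eq_mul
  have hst : ∀ (m : zl (S : Subgroup G) R₀) (g : R₀), g ∈ MulAction.stabilizer R₀ m ↔
      (g : G) ∈ R₀ ⊓ centralizer ({(m : G)} : Set G) := by
    intro m g
    rw [MulAction.mem_stabilizer_iff, hfx, mem_inf, mem_centralizer_iff]
    constructor
    · rintro h
      exact ⟨g.2, by rintro _ rfl; exact h.symm⟩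
    · rintro ⟨-, h⟩
      exact (h _ rfl).symm
  -- good vectors
  have hgood : ∀ (z : G) (hz : z ∈ zc (S : Subgroup G)), ¬ R₀ ≤ centralizer ({z} : Set G) →
      A.subgroupOf R₀ ≤ o2 (MulAction.stabilizer R₀ (⟨z, hZU hz⟩ : zl (S : Subgroup G) R₀)) := by
    intro z hz hm
    exact sub_o2 (hst ⟨z, hZU hz⟩) (low o hz hm)
  have hcvP : ∀ P : Subgroup R₀, cv (zl (S : Subgroup G) R₀) (P : Set R₀) =
      (centralizer (P.map R₀.subtype : Set G)).subgroupOf (zl (S : Subgroup G) R₀) := by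
    intro P
    ext m
    rw [mem_cv, mem_subgroupOf, mem_centralizer_iff]
    constructor
    · rintro h _ ⟨p, hp, rfl⟩
      exact (hfx p m).1 (h p hp)
    · intro h p hp
      exact (hfx p m).2 (h _ (mem_map_of_mem R₀.subtype hp))
  have hfxr : fxr R₀ (⊤ : Subgroup (zl (S : Subgroup G) R₀)) =
      (centralizer (zl (S : Subgroup G) R₀ : Set G)).subgroupOf R₀ := by
    ext g
    rw [mem_fxr, mem_subgroupOf, mem_centralizer_iff]
    constructor
    · intro h m hm
      exact ((hfx g ⟨m, hm⟩).1 (h _ (mem_top _))).symm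
    · intro h m _
      exact (hfx g m).2 (h m m.2).symm
  have hmapA : (A.subgroupOf R₀).map R₀.subtype = A := by
    rw [subgroupOf_map_subtype, inf_eq_left.2 (le_R o)]
  -- minimal parabolics
  have hpar : ∀ P : Subgroup R₀, IsMinPar ((S : Subgroup G).subgroupOf R₀) P →
      IsPar (S : Subgroup G) (P.map R₀.subtype) := fun P hP =>
    o.long.loc.isPar S (minPar_map hSR hP) (map_subtype_le P)
  refine
    { sq := fun m => ?_
      two := S.isPGroup'.comap_of_injective R₀.subtype R₀.subtype_injective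
      syl := MinSimple.Basic.not_dvd_relIndex S hSR
      TZ := fun t ht z hz => ?_
      nZ := fun g hg z hz => ?_
      par := fun P hP => ?_
      gen := ?_
      fix := fun P hP => ?_
      good := ?_
      el := fun a ha => ?_
      mv := ?_
      le := ?_
      KC := kg R₀ o.long.loc }
  · -- sq
    have h1 := ex_zl hc o.long.loc (m : G) m.2
    rw [pow_two] at h1
    exact Subtype.ext h1
  · -- TZ
    rw [hfx]
    exact (mem_zc.1 (mem_subgroupOf.1 hz)).2.1 _ (mem_subgroupOf.1 ht)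
  · -- nZ
    have h1 : (g : G) ∈ normalizer ((S : Subgroup G) : Set G) := by
      rw [mem_normalizer_iff]
      intro t
      constructor
      · intro ht
        exact (mem_normalizer_iff.1 hg ⟨t, hSR ht⟩).1 ht
      · intro ht
        have h2 : (g : G)⁻¹ * ((g : G) * t * (g : G)⁻¹) * (g : G)⁻¹⁻¹ ∈ (S : Subgroup G) :=
          (mem_normalizer_iff.1 (inv_mem hg) ⟨(g : G) * t * (g : G)⁻¹, hSR ht⟩).1 ht
        have e : (g : G)⁻¹ * ((g : G) * t * (g : G)⁻¹) * (g : G)⁻¹⁻¹ = t := by group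
        rwa [e] at h2
    exact (mem_normalizer_iff.1 (normalizer_le_normalizer_zc _ h1) _).1 (mem_subgroupOf.1 hz)
  · -- par
    rw [inf_relIndex_left, hcvP, relIndex_subgroupOf hZU]
    by_cases h : P.map R₀.subtype ≤ normalizer (zc (S : Subgroup G) : Set G)
    · have h1 := NoFF.LinesPlug.le_CC S (hpar P hP) h
      have h2 : zc (S : Subgroup G) ≤ centralizer (P.map R₀.subtype : Set G) := by
        intro z hz
        rw [mem_centralizer_iff]
        exact fun p hp => (mem_centralizer_iff.1 (h1 hp) z hz).symm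
      rw [relIndex_eq_one.2 h2]
      exact c1
    · exact par _ ⟨hpar P hP, h⟩
  · -- gen
    set W : Subgroup (zl (S : Subgroup G) R₀) :=
      ⨆ z : (zc (S : Subgroup G)).subgroupOf (zl (S : Subgroup G) R₀), ML.MinFrame.orb (⊤ : Subgroup R₀)
        (z : zl (S : Subgroup G) R₀) with hW
    have hinv : ∀ (g : R₀), ∀ m ∈ W, g • m ∈ W := by
      intro g m hm
      have h1 : W ≤ W.comap (MulDistribMulAction.toMonoidHom (zl (S : Subgroup G) R₀) g) := by
        conv_lhs => rw [hW]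
        refine iSup_le fun z w hw => ?_
        exact (le_iSup (fun z : (zc (S : Subgroup G)).subgroupOf (zl (S : Subgroup G) R₀) =>
          ML.MinFrame.orb (⊤ : Subgroup R₀) (z : zl (S : Subgroup G) R₀)) z) (smul_mem_orb (mem_top g) hw)
      exact h1 hm
    have h1 : zl (S : Subgroup G) R₀ ≤ W.map (zl (S : Subgroup G) R₀).subtype := by
      refine zl_le ?_ ?_
      · intro z hz
        refine ⟨⟨z, hZU hz⟩, ?_, rfl⟩
        exact (le_iSup (fun z : (zc (S : Subgroup G)).subgroupOf (zl (S : Subgroup G) R₀) =>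
          ML.MinFrame.orb (⊤ : Subgroup R₀) (z : zl (S : Subgroup G) R₀)) ⟨⟨z, hZU hz⟩, mem_subgroupOf.2 hz⟩)
            (mem_orb_self _ _)
      · have key : ∀ g ∈ R₀, ∀ a ∈ W.map (zl (S : Subgroup G) R₀).subtype,
            g * a * g⁻¹ ∈ W.map (zl (S : Subgroup G) R₀).subtype := by
          rintro g hg _ ⟨b, hb, rfl⟩
          exact ⟨(⟨g, hg⟩ : R₀) • b, hinv ⟨g, hg⟩ b hb, rfl⟩
        intro g hg
        rw [mem_normalizer_iff]
        intro a
        refine ⟨key g hg a, fun ha => ?_⟩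
        have h2 := key g⁻¹ (inv_mem hg) _ ha
        have e : g⁻¹ * (g * a * g⁻¹) * g⁻¹⁻¹ = a := by group
        rwa [e] at h2
    rw [eq_top_iff]
    intro m _
    obtain ⟨b, hb, hbm⟩ := h1 m.2
    have : b = m := Subtype.ext hbm
    exact this ▸ hb
  · -- fix
    by_cases h : P.map R₀.subtype ≤ normalizer (zc (S : Subgroup G) : Set G)
    · have h1 := NoFF.LinesPlug.le_CC S (hpar P hP) h
      obtain ⟨z, hz, hm⟩ := moved o
      refine ⟨⟨z, hZU hz⟩, mem_subgroupOf.2 hz, fun p hp => ?_, hgood z hz hm⟩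
      rw [hfx]
      exact (mem_centralizer_iff.1 (h1 (mem_map_of_mem R₀.subtype hp)) z hz).symm
    · obtain ⟨z, hz, hm⟩ := moved_par o (P := P.map R₀.subtype) ⟨hpar P hP, h⟩
      refine ⟨⟨z, hZU hz.1⟩, mem_subgroupOf.2 hz.1, fun p hp => ?_, hgood z hz.1 hm⟩
      rw [hfx]
      exact mem_centralizer_iff.1 hz.2 p (mem_map_of_mem R₀.subtype hp)
  · -- good
    obtain ⟨z, hz, hm⟩ := moved o
    exact ⟨⟨z, hZU hz⟩, mem_subgroupOf.2 hz, hgood z hz hm⟩
  · -- el
    have h1 := o.mx.1 a (mem_subgroupOf.1 ha)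
    rw [← pow_two]
    exact Subtype.ext h1
  · -- mv
    by_contra hcon
    push Not at hcon
    have h1 : A ≤ centralizer (zl (S : Subgroup G) R₀ : Set G) := by
      intro a ha
      rw [mem_centralizer_iff]
      intro m hm
      exact ((hfx ⟨a, le_R o ha⟩ ⟨m, hm⟩).1 (hcon ⟨a, le_R o ha⟩ (mem_subgroupOf.2 ha) ⟨m, hm⟩)).symm
    exact o.not ((le_inf le_rfl h1).trans (inf_le hc o.long o.mx.2.1))
  · -- le
    rw [hcvP, hmapA, hfxr, relIndex_subgroupOf (le_R o)]
    exact (exact hc ml kg o.long o.mx).le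

end inst

/-! ### The sockets -/

/-- no input `ZPre c` -/
def NoZ (c : ℕ) : Prop :=
  ∀ (C : Type u) [Group C] [Finite C] (M : Type v) [Group M] [Finite M] [MulDistribMulAction C M] (T A : Subgroup C)
    (Z : Subgroup M), ¬ ZPre c T A Z

section sockets

variable {G : Type u} [Group G] [Finite G] {S : Sylow 2 G} {A R₀ : Subgroup G}

theorem false_of {c : ℕ} (hno : NoZ.{u, u} c) (hc : IsCharacteristicTwoType G) (ml : MLK.{u, u})
    (kg : ∀ R : Subgroup G, IsLoc (S : Subgroup G) R → IsKGroup R) (c1 : 1 ≤ c)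
    (par : ∀ P, IsParS (S : Subgroup G) P → (centralizer (P : Set G)).relIndex (zc (S : Subgroup G)) ≤ c)
    (o : Out (S : Subgroup G) A R₀) : False := by
  let _ := act (le_normalizer_zl (S : Subgroup G) R₀)
  exact hno R₀ (zl (S : Subgroup G) R₀) _ _ _ (zpre hc ml kg o c1 par)

/-- `|Z : C_Z(P)| = 2` -/
theorem par_two (ht : Thin (S : Subgroup G)) {P : Subgroup G} (hP : IsParS (S : Subgroup G) P) :
    (centralizer (P : Set G)).relIndex (zc (S : Subgroup G)) ≤ 2 := by
  have h1 := ht P hP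
  rw [← inf_relIndex_left]
  have h2 : Nat.card ↥(zc (S : Subgroup G) ⊓ centralizer (P : Set G)) *
      (zc (S : Subgroup G) ⊓ centralizer (P : Set G)).relIndex (zc (S : Subgroup G)) =
        Nat.card (zc (S : Subgroup G)) := by
    rw [← Nat.card_congr (subgroupOfEquivOfLe (inf_le_left : zc (S : Subgroup G) ⊓ centralizer (P : Set G) ≤ _)).toEquiv]
    exact (Subgroup.subgroupOf _ (zc (S : Subgroup G))).card_mul_index
  have h3 : 0 < Nat.card ↥(zc (S : Subgroup G) ⊓ centralizer (P : Set G)) := Nat.card_pos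
  nlinarith

variable {K : Cls.{u}}

/-- **`Thin S`** -/
theorem endT_of (ml : MLK.{u, u}) (hno : NoZ.{u, u} 2) : EndT K := by
  intro G _ _ _ S B ht A R₀ o
  exact false_of hno B.ctx.char2 ml (fun R hR => kg_of B.ctx R hR) (by norm_num) (fun P hP => par_two ht hP) o

/-- **the general case** -/
theorem endA_of (ml : MLK.{u, u}) (hno : ∀ c, NoZ.{u, u} c) : EndA K := by
  intro G _ _ _ S B A R₀ o
  refine false_of (c := Nat.card (zc (S : Subgroup G))) (hno _) B.ctx.char2 ml (fun R hR => kg_of B.ctx R hR)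
    (Nat.card_pos) (fun P _ => ?_) o
  rw [relIndex, ← Nat.card_congr (Equiv.refl _)]
  exact Nat.le_of_dvd Nat.card_pos (index_dvd_card _)

end sockets

end Cfsg.Agent.Omega.NOThreeL.Sigma.Inst
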